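import Cfsg.Agent.Lib.H17.Fi22Ord.Order
import Cfsg.Agent.Lib.H17.Fi22U62.Orbits
import Cfsg.Agent.Lib.H17.Masks

set_option autoImplicit false
set_option maxRecDepth 100000

/-! # Simplicity of the presented group Fi22 (Iwasawa criterion on the 3510 cosets of 2.U6(2)) -/

namespace Cfsg.Agent.Lib.H17.Fi22Simple

open Cfsg.Spor Cfsg.Agent.Lib.H17.CosetCert Cfsg.Agent.Lib.H17.CoxGlue
  Cfsg.Agent.Lib.H17.Fi22Glue Cfsg.Agent.Lib.H17.Iwa Cfsg.Agent.Lib.H17.Masks
  Cfsg.Agent.Lib.H17.Fi22U62 MulAction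

/-- the action on the points -/
noncomputable local instance actInst : MulAction G (Fin 3510) := MulAction.compHom (Fin 3510) φ

theorem smul_eq (g : G) (i : Fin 3510) : g • i = φ g i := rfl

instance pretrans : IsPretransitive G (Fin 3510) := (isPretransitive_iff_base z).mpr φ_trans

/-! ## Primitivity -/

theorem orb0 : {i : Fin 3510 | ∃ h ∈ Subgroup.closure S', φ h ⟨7, by decide⟩ = i} =
    {i : Fin 3510 | tb omask0 i = true} :=
  orbit_eq_mask 12 4096 3510 φ S' omask0 hr ⟨7, by decide⟩ sgT good_sgT S'_words words_S'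
    obase0 oclosed0 oconn0

theorem orb1 : {i : Fin 3510 | ∃ h ∈ Subgroup.closure S', φ h ⟨1, by decide⟩ = i} =
    {i : Fin 3510 | tb omask1 i = true} :=
  orbit_eq_mask 12 4096 3510 φ S' omask1 hr ⟨1, by decide⟩ sgT good_sgT S'_words words_S'
    obase1 oclosed1 oconn1

theorem trans_of_orb (mask : ℕ) (p : Fin 3510)
    (h : {i : Fin 3510 | ∃ h ∈ Subgroup.closure S', φ h p = i} = {i : Fin 3510 | tb mask i = true})
    (x y : Fin 3510) (hx : tb mask x = true) (hy : tb mask y = true) :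
    ∃ g : G, g • z = z ∧ g • x = y := by
  have hx' : x ∈ {i : Fin 3510 | ∃ h ∈ Subgroup.closure S', φ h p = i} := by rw [h]; exact hx
  have hy' : y ∈ {i : Fin 3510 | ∃ h ∈ Subgroup.closure S', φ h p = i} := by rw [h]; exact hy
  obtain ⟨h1, hh1, rfl⟩ := hx'
  obtain ⟨h2, hh2, rfl⟩ := hy'
  refine ⟨h2 * h1⁻¹, ?_, ?_⟩
  · have : h2 * h1⁻¹ ∈ H := by
      rw [H_eq]
      exact mul_mem hh2 (inv_mem hh1)
    exact φ_H _ this
  · rw [smul_eq, map_mul, map_inv, Equiv.Perm.mul_apply]
    simp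

/-- the orbit masks -/
def masks : Fin 2 → ℕ := ![omask0, omask1]

theorem cover_count : countBits (Nat.lor (Nat.lor omask0 omask1) 1) 3510 0 = 3510 := by
  decide +kernel

theorem disj01 : Nat.land omask0 omask1 = 0 := by
  decide +kernel

theorem disj10 : Nat.land omask1 omask0 = 0 := by
  decide +kernel

theorem z0 : tb omask0 0 = false := by
  decide +kernel

theorem z1 : tb omask1 0 = false := by
  decide +kernel

instance prim : IsPreprimitive G (Fin 3510) := by
  apply prim_of_masks z masks ![693, 2816]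
  · intro j
    fin_cases j
    · exact ocount0
    · exact ocount1
  · intro i hi
    have h := all_of_count _ _ cover_count i i.2
    rw [tb_lor, tb_lor, tb_one] at h
    have hi0 : (i : ℕ) ≠ 0 := fun h0 => hi (Fin.ext h0)
    simp only [hi0, decide_false, Bool.or_false, Bool.or_eq_true] at h
    rcases h with h | h
    · exact ⟨0, h⟩
    · exact ⟨1, h⟩
  · intro i j hij
    fin_cases i <;> fin_cases j
    · exact absurd rfl hij
    · exact disj01
    · exact disj10
    · exact absurd rfl hij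
  · intro j
    fin_cases j
    · exact z0
    · exact z1
  · intro j x y hx hy
    fin_cases j
    · exact trans_of_orb omask0 _ orb0 x y hx hy
    · exact trans_of_orb omask1 _ orb1 x y hx hy
  · decide

/-! ## The Iwasawa structure -/

/-- the central involution of the point stabiliser -/
noncomputable abbrev a0 : G := PresentedGroup.of .a

theorem comm_of_word {x y : G} (hx : x * x = 1) (hy : y * y = 1)
    (h : x * (y * (x * (y * 1))) = 1) : x * y = y * x := by
  have hxi : x⁻¹ = x := inv_eq_of_mul_eq_one_left hx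
  have hyi : y⁻¹ = y := inv_eq_of_mul_eq_one_left hy
  have h2 : x * y = (x * y)⁻¹ := by
    rw [eq_inv_iff_mul_eq_one]
    rw [mul_one] at h
    rw [← h]
    group
  rw [h2, mul_inv_rev, hxi, hyi]

theorem comm_letter (x : ℕ) (hw : [0, x, 0, x] ∈ relW) :
    a0 * PresentedGroup.of (gen x) = PresentedGroup.of (gen x) * a0 :=
  comm_of_word (of_mul_self _) (of_mul_self _) (relW_trivial _ hw)

theorem commT_ok : checkWord 12 4096 ([tab0] ++ sgT8 ++ [tab0] ++ sgT8.reverse) 3510 = true := by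
  decide +kernel

theorem good_commT : ∀ t ∈ [tab0] ++ sgT8 ++ [tab0] ++ sgT8.reverse, Good 12 4096 3510 t := by
  intro t ht
  apply good_tabs
  revert t
  decide +kernel

theorem σ_comm : σ 12 4096 3510 tab0 * (sgT8.map (σ 12 4096 3510)).prod =
    (sgT8.map (σ 12 4096 3510)).prod * σ 12 4096 3510 tab0 := by
  have h := prod_eq_one_of_check 12 4096 3510 _ good_commT commT_ok
  rw [List.map_append, List.map_append, List.map_append, List.prod_append, List.prod_append,
    List.prod_append, List.map_reverse, prod_reverse_of_invol_list _ (by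
      intro g hg'
      obtain ⟨t, -, rfl⟩ := List.mem_map.mp hg'
      exact σ_mul_self 12 4096 3510 t)] at h
  simp only [List.map_cons, List.map_nil, List.prod_cons, List.prod_nil, mul_one] at h
  -- h : σ0 * P * σ0 * P⁻¹ = 1
  have h2 : σ 12 4096 3510 tab0 * (sgT8.map (σ 12 4096 3510)).prod * σ 12 4096 3510 tab0 =
      (sgT8.map (σ 12 4096 3510)).prod := by
    rw [← mul_inv_eq_one]; exact h
  calc σ 12 4096 3510 tab0 * (sgT8.map (σ 12 4096 3510)).prod
      = σ 12 4096 3510 tab0 * (sgT8.map (σ 12 4096 3510)).prod *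
          (σ 12 4096 3510 tab0 * σ 12 4096 3510 tab0) := by rw [σ_mul_self, mul_one]
    _ = (σ 12 4096 3510 tab0 * (sgT8.map (σ 12 4096 3510)).prod * σ 12 4096 3510 tab0) *
          σ 12 4096 3510 tab0 := by group
    _ = (sgT8.map (σ 12 4096 3510)).prod * σ 12 4096 3510 tab0 := by rw [h2]

theorem comm_S' : ∀ s ∈ S', a0 * s = s * a0 := by
  rintro _ ⟨s, hs, rfl⟩
  simp only [S, Set.mem_insert_iff, Set.mem_singleton_iff] at hs
  rcases hs with rfl | rfl | rfl | rfl | rfl | rfl | rfl | rfl | rfl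
  · rfl
  · exact comm_letter 2 (by decide)
  · exact comm_letter 3 (by decide)
  · exact comm_letter 4 (by decide)
  · exact comm_letter 5 (by decide)
  · exact comm_letter 6 (by decide)
  · exact comm_letter 7 (by decide)
  · exact comm_letter 8 (by decide)
  · apply Cfsg.Agent.Lib.H17.Fi22Ord.φ_injective
    have hW : φ (PresentedGroup.mk rels ((Cfsg.Spor.Fi22.a * Cfsg.Spor.Fi22.b * Cfsg.Spor.Fi22.c *
        Cfsg.Spor.Fi22.d * Cfsg.Spor.Fi22.e * Cfsg.Spor.Fi22.h) ^ 5)) =
        (sgT8.map (σ 12 4096 3510)).prod := by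
      rw [sg8_eq, φ_mk]; rfl
    rw [map_mul, map_mul, hW]
    exact σ_comm

theorem a0_mem_H : a0 ∈ H :=
  Subgroup.mem_map_of_mem _ (Subgroup.subset_closure sg0_mem)

theorem a0_mem_T : a0 ∈ T (X := Fin 3510) z := by
  refine ⟨φ_H _ a0_mem_H, fun q hq => ?_⟩
  have hqH : q ∈ H := index_and_stab.2 q hq
  rw [H_eq] at hqH
  have hle : Subgroup.closure S' ≤ Subgroup.centralizer {a0} := by
    rw [Subgroup.closure_le]
    intro s hs
    rw [SetLike.mem_coe, Subgroup.mem_centralizer_iff]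
    intro h hh
    rw [Set.mem_singleton_iff] at hh
    subst hh
    exact comm_S' s hs
  have := hle hqH
  rw [Subgroup.mem_centralizer_iff] at this
  exact this a0 rfl

/-! ## The generators are conjugate -/

theorem pow3_of_word {x y : G} (h : x * (y * (x * (y * (x * (y * 1))))) = 1) : (x * y) ^ 3 = 1 := by
  rw [← h, pow_succ, pow_succ, pow_one]
  simp only [mul_assoc, mul_one]

theorem braid (x y : ℕ) (hw : [x, y, x, y, x, y] ∈ relW) :
    ∃ g : G, g * PresentedGroup.of (gen x) * g⁻¹ = PresentedGroup.of (gen y) :=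
  isConj_of_braid (of_mul_self _) (of_mul_self _) (pow3_of_word (relW_trivial _ hw))

theorem conj_trans {a b c : G} (h1 : ∃ g : G, g * a * g⁻¹ = b) (h2 : ∃ g : G, g * b * g⁻¹ = c) :
    ∃ g : G, g * a * g⁻¹ = c := by
  obtain ⟨g, rfl⟩ := h1
  obtain ⟨h, rfl⟩ := h2
  exact ⟨h * g, by group⟩

theorem c1 : ∃ g : G, g * a0 * g⁻¹ = PresentedGroup.of (gen 1) := braid 0 1 (by decide)
theorem c2 : ∃ g : G, g * a0 * g⁻¹ = PresentedGroup.of (gen 2) := conj_trans c1 (braid 1 2 (by decide))
theorem c3 : ∃ g : G, g * a0 * g⁻¹ = PresentedGroup.of (gen 3) := conj_trans c2 (braid 2 3 (by decide))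
theorem c4 : ∃ g : G, g * a0 * g⁻¹ = PresentedGroup.of (gen 4) := conj_trans c3 (braid 3 4 (by decide))
theorem c5 : ∃ g : G, g * a0 * g⁻¹ = PresentedGroup.of (gen 5) := conj_trans c4 (braid 4 5 (by decide))
theorem c6 : ∃ g : G, g * a0 * g⁻¹ = PresentedGroup.of (gen 6) := conj_trans c5 (braid 5 6 (by decide))
theorem c7 : ∃ g : G, g * a0 * g⁻¹ = PresentedGroup.of (gen 7) := conj_trans c3 (braid 3 7 (by decide))
theorem c8 : ∃ g : G, g * a0 * g⁻¹ = PresentedGroup.of (gen 8) := conj_trans c7 (braid 7 8 (by decide))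

theorem conj_all : ∀ s ∈ {g : G | ∃ x < 9, g = PresentedGroup.of (gen x)},
    ∃ g : G, g * a0 * g⁻¹ = s := by
  rintro _ ⟨x, hx, rfl⟩
  interval_cases x
  · exact ⟨1, by simp [a0]; rfl⟩
  · exact c1
  · exact c2
  · exact c3
  · exact c4
  · exact c5
  · exact c6
  · exact c7
  · exact c8

/-! ## Perfectness and simplicity -/

/-- a relator of odd length -/
def oddW : List ℕ := [0, 1, 2, 3, 4, 5, 7, 0, 1, 2, 3, 4, 5, 7, 0, 1, 2, 3, 4, 5, 7, 0, 1, 2, 3, 4, 5, 7, 0, 1, 2, 3, 4, 5, 7, 0, 1, 2, 3, 4, 5, 7, 0, 1, 2, 3, 4, 5, 7, 0, 1, 2, 3, 4, 5, 7, 0, 1, 2, 3, 4, 5, 7]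

theorem oddW_mem : oddW ∈ relW := by
  decide

theorem perfect : commutator G = ⊤ := by
  apply commutator_eq_top_of_odd_relation _ closure_gens a0 conj_all (of_mul_self _)
    (oddW.map fun x => PresentedGroup.of (gen x))
  · intro s hs
    obtain ⟨x, hx, rfl⟩ := List.mem_map.mp hs
    have hall : ∀ x ∈ oddW, x < 9 := by decide
    exact ⟨x, hall x hx, rfl⟩
  · rw [List.length_map]
    decide
  · have := relW_trivial _ oddW_mem
    rw [List.map_map] at this
    exact this

theorem simple : IsSimpleGroup G := by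
  have := Cfsg.Agent.Lib.H17.Fi22Ord.finite_G
  have : Nontrivial G := by
    rw [← Finite.one_lt_card_iff_nontrivial, Cfsg.Agent.Lib.H17.Fi22Ord.card_eq]
    norm_num
  have hgen := iSup_T_eq_top (X := Fin 3510) _ closure_gens z a0 a0_mem_T conj_all
  exact IwasawaStructure.isSimpleGroup perfect (iwasawa hgen)
    ⟨fun {g h} heq => Cfsg.Agent.Lib.H17.Fi22Ord.φ_injective (Equiv.ext heq)⟩

end Cfsg.Agent.Lib.H17.Fi22Simple
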