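import Cfsg.Agent.Lib.H17.U6Cover
import Cfsg.Agent.Lib.H17.Fi22Ord.Simple
import Cfsg.Prelude.Def_Sporadic

set_option autoImplicit false
set_option maxRecDepth 100000

/-! # The class of 3-transpositions of the presented `Fi22` -/

namespace Cfsg.Agent.Lib.H17.Fi22Transp

open Cfsg.Spor Cfsg.Agent.Lib.H17.CosetCert Cfsg.Agent.Lib.H17.CoxGlue
  Cfsg.Agent.Lib.H17.Fi22Glue Cfsg.Agent.Lib.H17.Iwa Cfsg.Agent.Lib.H17.Masks
  Cfsg.Agent.Lib.H17.Fi22U62 Cfsg.Agent.Lib.H17.Fi22Simple MulAction

attribute [local instance] Cfsg.Agent.Lib.H17.Fi22Simple.actInst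

/-- the word of the transposition `a` -/
def zW : List ℕ := [0]

/-- the transposition `a` -/
noncomputable abbrev zel : G := Cfsg.Agent.Lib.H17.Fi22Word.e zW

theorem zel_eq : zel = a0 := Cfsg.Agent.Lib.H17.Fi22Word.e_singleton 0

theorem zel_sq : zel * zel = 1 := by
  rw [zel_eq]
  exact of_mul_self _

theorem zel_ne_one : zel ≠ 1 := by
  intro h
  apply Cfsg.Agent.Lib.H17.U6Main.ha_ne
  exact Subtype.ext h

theorem zel_mem_T : zel ∈ T (X := Fin 3510) z := by
  rw [zel_eq]
  exact a0_mem_T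

theorem conj_all' : ∀ s ∈ {g : G | ∃ x < 9, g = PresentedGroup.of (gen x)},
    ∃ g : G, g * zel * g⁻¹ = s := by
  rw [zel_eq]
  exact conj_all

theorem smul_val (L : List ℕ) (c : Fin 3510) :
    ((Cfsg.Agent.Lib.H17.Fi22Word.e L • c : Fin 3510) : ℕ) =
      applyT 12 4096 (Cfsg.Agent.Lib.H17.Fi22Word.tw L).reverse c := by
  rw [smul_eq, Cfsg.Agent.Lib.H17.Fi22Word.φ_e, prod_apply 12 4096 3510 _
    (fun t ht => good_tabs t (Cfsg.Agent.Lib.H17.Fi22Word.tw_mem _ t ht))]

/-! ## Representatives of the two classes of pairs -/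

/-- a word taking the base point into the first suborbit -/
def rW0 : List ℕ := [7, 4, 3, 1, 2, 0, 1]

/-- a word taking the base point into the second suborbit -/
def rW1 : List ℕ := [1]

/-- the first representative -/
noncomputable abbrev r0 : G := Cfsg.Agent.Lib.H17.Fi22Word.e rW0

/-- the second representative -/
noncomputable abbrev r1 : G := Cfsg.Agent.Lib.H17.Fi22Word.e rW1

/-- the transposition commuting with the central involution -/
noncomputable abbrev d0 : G := Cfsg.Agent.Lib.H17.Fi22Word.e (rW0 ++ zW ++ rW0.reverse)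

/-- the transposition not commuting with the central involution -/
noncomputable abbrev d1 : G := Cfsg.Agent.Lib.H17.Fi22Word.e (rW1 ++ zW ++ rW1.reverse)

theorem d0_eq : d0 = r0 * zel * r0⁻¹ := by
  change Cfsg.Agent.Lib.H17.Fi22Word.e (rW0 ++ zW ++ rW0.reverse) = _
  rw [Cfsg.Agent.Lib.H17.Fi22Word.e_append, Cfsg.Agent.Lib.H17.Fi22Word.e_append,
    Cfsg.Agent.Lib.H17.Fi22Word.e_reverse]

theorem d1_eq : d1 = r1 * zel * r1⁻¹ := by
  change Cfsg.Agent.Lib.H17.Fi22Word.e (rW1 ++ zW ++ rW1.reverse) = _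
  rw [Cfsg.Agent.Lib.H17.Fi22Word.e_append, Cfsg.Agent.Lib.H17.Fi22Word.e_append,
    Cfsg.Agent.Lib.H17.Fi22Word.e_reverse]

theorem r0_smul : r0 • z = ⟨7, by decide⟩ := by
  apply Fin.ext
  rw [smul_val]
  decide +kernel

theorem r1_smul : r1 • z = ⟨1, by decide⟩ := by
  apply Fin.ext
  rw [smul_val]
  decide +kernel

theorem pow_d0 : (zel * d0) ^ 2 = 1 := by
  rw [pow_two, ← Cfsg.Agent.Lib.H17.Fi22Word.e_append, ← Cfsg.Agent.Lib.H17.Fi22Word.e_append,
    ← Cfsg.Agent.Lib.H17.Fi22Word.e_nil]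
  apply Cfsg.Agent.Lib.H17.Fi22Word.e_eq_e
  decide +kernel

theorem pow_d1 : (zel * d1) ^ 3 = 1 := by
  rw [pow_succ, pow_two, ← Cfsg.Agent.Lib.H17.Fi22Word.e_append,
    ← Cfsg.Agent.Lib.H17.Fi22Word.e_append, ← Cfsg.Agent.Lib.H17.Fi22Word.e_append,
    ← Cfsg.Agent.Lib.H17.Fi22Word.e_nil]
  apply Cfsg.Agent.Lib.H17.Fi22Word.e_eq_e
  decide +kernel

theorem d0_ne : d0 ≠ zel := by
  intro h
  have h2 := congrArg (fun g : G => ((g • (⟨1, by decide⟩ : Fin 3510) : Fin 3510) : ℕ)) h
  simp only [smul_val] at h2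
  revert h2
  decide +kernel

theorem d1_ne : d1 ≠ zel := by
  intro h
  have h2 := congrArg (fun g : G => ((g • (⟨1, by decide⟩ : Fin 3510) : Fin 3510) : ℕ)) h
  simp only [smul_val] at h2
  revert h2
  decide +kernel

/-! ## The conjugates of the central involution -/

theorem comm_of_mem_H (h : G) (hh : h ∈ H) : zel * h = h * zel :=
  zel_mem_T.2 h (φ_H h hh)

theorem cover (i : Fin 3510) (hi : i ≠ z) : tb omask0 i = true ∨ tb omask1 i = true := by
  have h := all_of_count _ _ cover_count i i.2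
  rw [tb_lor, tb_lor, tb_one] at h
  have hi0 : (i : ℕ) ≠ 0 := fun h0 => hi (Fin.ext h0)
  simp only [hi0, decide_false, Bool.or_false, Bool.or_eq_true] at h
  exact h

theorem conj_of_smul (g r : G) (h : G) (hh : h ∈ H) (hx : (h * r) • z = g • z) :
    g * zel * g⁻¹ = h * (r * zel * r⁻¹) * h⁻¹ := by
  have hk : (g⁻¹ * (h * r)) • z = z := by
    rw [mul_smul, hx, inv_smul_smul]
  have hkH : g⁻¹ * (h * r) ∈ H := index_and_stab.2 _ hk
  have hc := comm_of_mem_H _ hkH
  -- zel * (g⁻¹ h r) = (g⁻¹ h r) * zel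
  calc g * zel * g⁻¹ = g * (zel * (g⁻¹ * (h * r))) * (h * r)⁻¹ := by group
    _ = g * ((g⁻¹ * (h * r)) * zel) * (h * r)⁻¹ := by rw [hc]
    _ = h * (r * zel * r⁻¹) * h⁻¹ := by group

/-- a conjugate of the central involution is the central involution itself, or conjugate under the
point stabiliser to one of the two representatives -/
theorem conj_cases (g : G) : g ∈ H ∨ (∃ h ∈ H, g * zel * g⁻¹ = h * d0 * h⁻¹) ∨
    (∃ h ∈ H, g * zel * g⁻¹ = h * d1 * h⁻¹) := by
  by_cases hz : g • z = z
  · exact Or.inl (index_and_stab.2 g hz)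
  · right
    rcases cover (g • z) hz with hm | hm
    · left
      have hx : g • z ∈ {i : Fin 3510 | ∃ h ∈ Subgroup.closure S', φ h ⟨7, by decide⟩ = i} := by
        rw [orb0]
        exact hm
      obtain ⟨h, hh, hhx⟩ := hx
      refine ⟨h, by rw [H_eq]; exact hh, ?_⟩
      rw [d0_eq]
      apply conj_of_smul g r0 h (by rw [H_eq]; exact hh)
      rw [mul_smul, r0_smul]
      exact hhx
    · right
      have hx : g • z ∈ {i : Fin 3510 | ∃ h ∈ Subgroup.closure S', φ h ⟨1, by decide⟩ = i} := by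
        rw [orb1]
        exact hm
      obtain ⟨h, hh, hhx⟩ := hx
      refine ⟨h, by rw [H_eq]; exact hh, ?_⟩
      rw [d1_eq]
      apply conj_of_smul g r1 h (by rw [H_eq]; exact hh)
      rw [mul_smul, r1_smul]
      exact hhx

theorem zel_conj_of_mem_H (g : G) (hg : g ∈ H) : g * zel * g⁻¹ = zel := by
  rw [← comm_of_mem_H g hg, mul_inv_cancel_right]

theorem pow_conj (h x : G) (n : ℕ) : (h * x * h⁻¹) ^ n = h * x ^ n * h⁻¹ := by
  induction n with
  | zero => simp
  | succ n ih => rw [pow_succ, ih, pow_succ]; group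

/-- the product of the central involution with any of its conjugates has order at most three -/
theorem pow_zel_conj (g : G) : (zel * (g * zel * g⁻¹)) ^ 2 = 1 ∨ (zel * (g * zel * g⁻¹)) ^ 3 = 1 := by
  rcases conj_cases g with hg | ⟨h, hh, he⟩ | ⟨h, hh, he⟩
  · left
    rw [zel_conj_of_mem_H g hg, pow_two, zel_sq, one_mul]
  · left
    have : zel * (g * zel * g⁻¹) = h * (zel * d0) * h⁻¹ := by
      rw [he]
      calc zel * (h * d0 * h⁻¹) = (zel * h) * d0 * h⁻¹ := by group
        _ = (h * zel) * d0 * h⁻¹ := by rw [comm_of_mem_H h hh]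
        _ = h * (zel * d0) * h⁻¹ := by group
    rw [this, pow_conj, pow_d0]
    group
  · right
    have : zel * (g * zel * g⁻¹) = h * (zel * d1) * h⁻¹ := by
      rw [he]
      calc zel * (h * d1 * h⁻¹) = (zel * h) * d1 * h⁻¹ := by group
        _ = (h * zel) * d1 * h⁻¹ := by rw [comm_of_mem_H h hh]
        _ = h * (zel * d1) * h⁻¹ := by group
    rw [this, pow_conj, pow_d1]
    group

/-- the centraliser of the central involution is the point stabiliser -/
theorem centralizer_zel : Subgroup.centralizer {zel} = H := by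
  ext g
  rw [Subgroup.mem_centralizer_iff]
  constructor
  · intro hg
    have hc : g * zel * g⁻¹ = zel := by
      have := hg zel rfl
      rw [← this, mul_inv_cancel_right]
    rcases conj_cases g with hgH | ⟨h, hh, he⟩ | ⟨h, hh, he⟩
    · exact hgH
    · exfalso
      apply d0_ne
      have h1 : d0 = h⁻¹ * (g * zel * g⁻¹) * h := by rw [he]; group
      rw [h1, hc]
      have := zel_conj_of_mem_H h⁻¹ (inv_mem hh)
      rw [inv_inv] at this
      exact this
    · exfalso
      apply d1_ne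
      have h1 : d1 = h⁻¹ * (g * zel * g⁻¹) * h := by rw [he]; group
      rw [h1, hc]
      have := zel_conj_of_mem_H h⁻¹ (inv_mem hh)
      rw [inv_inv] at this
      exact this
  · intro hg y hy
    rw [Set.mem_singleton_iff] at hy
    subst hy
    exact comm_of_mem_H g hg

/-! ## The class of transpositions -/

/-- the class of transpositions -/
def D : Set G := conjugatesOf zel

theorem mem_D (d : G) : d ∈ D ↔ ∃ g : G, g * zel * g⁻¹ = d := by
  change IsConj zel d ↔ _
  rw [isConj_iff]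

theorem zel_mem_D : zel ∈ D := (mem_D zel).mpr ⟨1, by group⟩

theorem orderOf_zel : orderOf zel = 2 :=
  orderOf_eq_prime (by rw [pow_two]; exact zel_sq) zel_ne_one

theorem threeTranspositionSet : Cfsg.IsThreeTranspositionSet D := by
  constructor
  · intro d hd
    obtain ⟨g, rfl⟩ := (mem_D d).mp hd
    have : g * zel * g⁻¹ = MulAut.conj g zel := rfl
    rw [this, MulEquiv.orderOf_eq]
    exact orderOf_zel
  · intro d hd e he
    obtain ⟨g1, rfl⟩ := (mem_D d).mp hd
    obtain ⟨g2, rfl⟩ := (mem_D e).mp he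
    have key : g1 * zel * g1⁻¹ * (g2 * zel * g2⁻¹) =
        g1 * (zel * ((g1⁻¹ * g2) * zel * (g1⁻¹ * g2)⁻¹)) * g1⁻¹ := by group
    rw [key, pow_conj, pow_conj]
    rcases pow_zel_conj (g1⁻¹ * g2) with h | h
    · left
      rw [h]
      group
    · right
      rw [h]
      group

theorem closure_D : Subgroup.closure D = ⊤ := by
  rw [eq_top_iff, ← closure_gens]
  apply Subgroup.closure_mono
  intro s hs
  obtain ⟨g, hg⟩ := conj_all' s hs
  exact (mem_D s).mpr ⟨g, hg⟩

theorem threeTranspositionClass : Cfsg.IsThreeTranspositionClass D :=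
  ⟨threeTranspositionSet, ⟨zel, zel_mem_D, rfl⟩, closure_D⟩

/-! ## The number of transpositions -/

/-- the map from the cosets of the centraliser onto the class -/
noncomputable def classMap : G ⧸ H → D :=
  Quotient.lift (s := QuotientGroup.leftRel H)
    (fun g : G => (⟨g * zel * g⁻¹, (mem_D _).mpr ⟨g, rfl⟩⟩ : D)) (by
      intro a b hab
      have hab' : a⁻¹ * b ∈ H := QuotientGroup.leftRel_apply.mp hab
      apply Subtype.ext
      change a * zel * a⁻¹ = b * zel * b⁻¹
      have hc := comm_of_mem_H _ hab'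
      calc a * zel * a⁻¹ = a * (zel * (a⁻¹ * b)) * b⁻¹ := by group
        _ = a * ((a⁻¹ * b) * zel) * b⁻¹ := by rw [hc]
        _ = b * zel * b⁻¹ := by group)

theorem classMap_bij : Function.Bijective classMap := by
  constructor
  · intro x y
    induction x using QuotientGroup.induction_on with
    | H a =>
    induction y using QuotientGroup.induction_on with
    | H b =>
    intro hxy
    have h1 : a * zel * a⁻¹ = b * zel * b⁻¹ := congrArg Subtype.val hxy
    apply QuotientGroup.eq.mpr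
    rw [← centralizer_zel, Subgroup.mem_centralizer_iff]
    rintro m rfl
    calc zel * (a⁻¹ * b) = a⁻¹ * (a * zel * a⁻¹) * b := by group
      _ = a⁻¹ * (b * zel * b⁻¹) * b := by rw [h1]
      _ = a⁻¹ * b * zel := by group
  · rintro ⟨d, hd⟩
    obtain ⟨g, rfl⟩ := (mem_D d).mp hd
    exact ⟨QuotientGroup.mk g, rfl⟩

theorem card_D : Nat.card D = 3510 := by
  rw [← Nat.card_congr (Equiv.ofBijective classMap classMap_bij), ← index_eq]
  rfl

/-! ## Transfer of non-split double covers along isomorphisms -/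

theorem center_map_equiv {A B : Type*} [Group A] [Group B] (e : A ≃* B) :
    (Subgroup.center A).map e.toMonoidHom = Subgroup.center B := by
  ext x
  rw [Subgroup.mem_map, Subgroup.mem_center_iff]
  constructor
  · rintro ⟨y, hy, rfl⟩ g
    rw [Subgroup.mem_center_iff] at hy
    have h2 := congrArg e (hy (e.symm g))
    simpa using h2
  · intro hx
    refine ⟨e.symm x, ?_, by simp⟩
    rw [Subgroup.mem_center_iff]
    intro g
    apply e.injective
    simpa using hx (e g)

theorem nonsplitDoubleCover_congr {A B K : Type*} [Group A] [Group B] [Group K] [Finite B]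
    (e : A ≃* B) (h : Cfsg.IsNonsplitDoubleCover B K) : Cfsg.IsNonsplitDoubleCover A K := by
  obtain ⟨h1, ⟨f⟩, h3⟩ := h
  have hc := center_map_equiv e
  have : Finite A := Finite.of_equiv B e.symm.toEquiv
  refine ⟨?_, ⟨?_⟩, ?_⟩
  · rw [← h1]
    exact Nat.card_congr (Subgroup.centerCongr e).toEquiv
  · exact (QuotientGroup.congr _ _ e hc).trans f
  · intro L hL
    apply h3 (L.map e.toMonoidHom)
    rw [← hc]
    obtain ⟨hcard, hdisj⟩ := Subgroup.isComplement'_iff_card_mul_and_disjoint.mp hL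
    apply Subgroup.isComplement'_of_card_mul_and_disjoint
    · rw [Subgroup.card_map_of_injective e.injective, Subgroup.card_map_of_injective e.injective,
        hcard]
      exact Nat.card_congr e.toEquiv
    · rw [Subgroup.disjoint_def] at hdisj ⊢
      rintro x ⟨a, ha, rfl⟩ ⟨b, hb, hab⟩
      have hba : b = a := e.injective hab
      subst hba
      rw [hdisj ha hb]
      exact map_one _

/-! ## The centralisers of the transpositions -/

theorem map_centralizer (g : G) :
    (Subgroup.centralizer {g * zel * g⁻¹}).map (MulAut.conj g⁻¹).toMonoidHom = H := by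
  rw [← centralizer_zel]
  ext x
  rw [Subgroup.mem_map, Subgroup.mem_centralizer_iff]
  constructor
  · rintro ⟨y, hy, rfl⟩ m rfl
    rw [Subgroup.mem_centralizer_iff] at hy
    have hy' := hy _ rfl
    change zel * (g⁻¹ * y * g⁻¹⁻¹) = g⁻¹ * y * g⁻¹⁻¹ * zel
    calc zel * (g⁻¹ * y * g⁻¹⁻¹) = g⁻¹ * ((g * zel * g⁻¹) * y) * g := by group
      _ = g⁻¹ * (y * (g * zel * g⁻¹)) * g := by rw [hy']
      _ = g⁻¹ * y * g⁻¹⁻¹ * zel := by group
  · intro hx
    have hx' := hx _ rfl
    refine ⟨g * x * g⁻¹, ?_, ?_⟩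
    · rw [Subgroup.mem_centralizer_iff]
      rintro m rfl
      calc g * zel * g⁻¹ * (g * x * g⁻¹) = g * (zel * x) * g⁻¹ := by group
        _ = g * (x * zel) * g⁻¹ := by rw [hx']
        _ = g * x * g⁻¹ * (g * zel * g⁻¹) := by group
    · change g⁻¹ * (g * x * g⁻¹) * g⁻¹⁻¹ = x
      group

/-- the centraliser of a transposition is isomorphic to the point stabiliser -/
noncomputable def centralizerEquiv (g : G) : Subgroup.centralizer {g * zel * g⁻¹} ≃* H :=
  ((MulAut.conj g⁻¹).subgroupMap (Subgroup.centralizer {g * zel * g⁻¹})).trans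
    (MulEquiv.subgroupCongr (map_centralizer g))

theorem finite_H : Finite H := by
  have : Finite G := Cfsg.Agent.Lib.H17.Fi22Word.finite_G
  infer_instance

theorem main : ∃ (G : Type) (_ : Group G) (_ : Finite G), Cfsg.IsFi22 G ∧ ∃ D : Set G,
    Cfsg.IsThreeTranspositionClass D ∧ Nat.card D = 3510 ∧ ∀ d ∈ D,
      ∃ (F : Type) (_ : Field F) (_ : Fintype F), Fintype.card F = 4 ∧
        Cfsg.IsNonsplitDoubleCover (Subgroup.centralizer ({d} : Set G)) (Cfsg.PSU 6 F 2) := by
  refine ⟨G, inferInstance, Cfsg.Agent.Lib.H17.Fi22Word.finite_G,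
    ⟨Cfsg.Agent.Lib.H17.Fi22Simple.simple, Cfsg.Agent.Lib.H17.Fi22Ord.card_eq⟩, D,
    threeTranspositionClass, card_D, ?_⟩
  intro d hd
  obtain ⟨g, rfl⟩ := (mem_D d).mp hd
  refine ⟨Cfsg.Agent.Lib.H17.F4, inferInstance, inferInstance, Cfsg.Agent.Lib.H17.F4.card_eq, ?_⟩
  have := finite_H
  exact nonsplitDoubleCover_congr (centralizerEquiv g) Cfsg.Agent.Lib.H17.U6Cover.cover

end Cfsg.Agent.Lib.H17.Fi22Transp
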