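import Cfsg.Agent.Lib.H17.Fi22Ord.Lv3Facts

set_option autoImplicit false
set_option maxRecDepth 100000

/-! # Steps of the coset enumeration Fi22Ord Lv3, part 0 (generated) -/

namespace Cfsg.Agent.Lib.H17.Fi22Ord.Lv3

open Cfsg.Spor Cfsg.Agent.Lib.H17.CosetCert Cfsg.Agent.Lib.H17.CoxGlue Cfsg.Agent.Lib.H17.Fi22Glue Cfsg.Agent.Lib.H17.SubChain Cfsg.Agent.Lib.H17.Fi22Ord

/-- steps 0 … -/
def steps0 : List ℕ := [0x4, 0x5, 0x0, 0x2000002000000000001000002000000000002, 0x0, 0x2000001000002000004000004000004000001000001000003, 0x0, 0x4000003000004000006000006000004000001000002000001, 0x5000006000006000002000001000002000002]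

theorem chk0 : checkSteps F 3 16777216 words steps0 0 1 = some 4 := by
  decide +kernel

theorem len0 : steps0.length = 9 := by
  decide +kernel

end Cfsg.Agent.Lib.H17.Fi22Ord.Lv3
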