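import Cfsg.Agent.Lib.H17.Fi22Ord.Lv4Facts

set_option autoImplicit false
set_option maxRecDepth 100000

/-! # Steps of the coset enumeration Fi22Ord Lv4, part 0 (generated) -/

namespace Cfsg.Agent.Lib.H17.Fi22Ord.Lv4

open Cfsg.Spor Cfsg.Agent.Lib.H17.CosetCert Cfsg.Agent.Lib.H17.CoxGlue Cfsg.Agent.Lib.H17.Fi22Glue Cfsg.Agent.Lib.H17.SubChain Cfsg.Agent.Lib.H17.Fi22Ord

/-- steps 0 … -/
def steps0 : List ℕ := [0x7, 0x8, 0x9, 0x0, 0x3000003000000000001000002000000000003, 0x3000003000001000001000002000000000005, 0x0, 0x6000006000004000001000002000001000002, 0x3000002000003000006000006000004000001000001000006, 0x0, 0x6000005000006000009000009000004000001000002000004, 0x8000009000009000002000001000002000005, 0x0, 0x900000700000900000c00000c000004000001000003000001, 0xa00000c00000c000002000001000003000002, 0xb00000c00000c000002000001000003000003]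

theorem chk0 : checkSteps F 4 16777216 words steps0 0 1 = some 5 := by
  decide +kernel

theorem len0 : steps0.length = 16 := by
  decide +kernel

end Cfsg.Agent.Lib.H17.Fi22Ord.Lv4
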