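import Cfsg.Agent.Lib.H17.Fi22Ord.Lv5Facts

set_option autoImplicit false
set_option maxRecDepth 100000

/-! # Final table of the coset enumeration Fi22Ord Lv5 (generated) -/

namespace Cfsg.Agent.Lib.H17.Fi22Ord.Lv5

open Cfsg.Spor Cfsg.Agent.Lib.H17.CosetCert Cfsg.Agent.Lib.H17.CoxGlue Cfsg.Agent.Lib.H17.Fi22Glue Cfsg.Agent.Lib.H17.SubChain Cfsg.Agent.Lib.H17.Fi22Ord

/-- rows 0 … -/
def rows0 : List ℕ := [0x4000003000002000001000000000000, 0x4000008000007000006000005000001, 0xb00000800000c00000a000009000002, 0xf00000e00000c00001000000d000003, 0x13000012000011000010000014000004, 0x18000017000016000015000014000005]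

/-- the mask of the final nodes -/
def mask : ℕ := 0x3f

/-- all rows -/
def rows : List ℕ := rows0

theorem rows0_ok : checkRows F 5 16777216 25 mask rows0 = true := by
  decide +kernel

theorem rows_ok : checkRows F 5 16777216 25 mask rows = true := rows0_ok

theorem mask_ok : maskOf 16777216 rows 0 = mask := by
  decide +kernel

theorem mask_zero : tb mask 0 = true := by
  decide +kernel

theorem rows_length : rows.length = 6 := by
  decide +kernel

end Cfsg.Agent.Lib.H17.Fi22Ord.Lv5
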