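import Cfsg.Agent.Lib.H17.Fi22Ord.Lv6Facts

set_option autoImplicit false
set_option maxRecDepth 100000

/-! # Final table of the coset enumeration Fi22Ord Lv6 (generated) -/

namespace Cfsg.Agent.Lib.H17.Fi22Ord.Lv6

open Cfsg.Spor Cfsg.Agent.Lib.H17.CosetCert Cfsg.Agent.Lib.H17.CoxGlue Cfsg.Agent.Lib.H17.Fi22Glue Cfsg.Agent.Lib.H17.SubChain Cfsg.Agent.Lib.H17.Fi22Ord

/-- rows 0 … -/
def rows0 : List ℕ := [0x5000004000003000002000001000000000000, 0x500000a000009000008000007000006000001, 0xe00000a00000f00000d00000c00000b000002, 0x1300001200000f000014000011000010000003, 0x18000017000016000014000019000015000004, 0x1d00001c00001b00001a00001900001e000005, 0x2300002200002100002000001f00001e000006]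

/-- the mask of the final nodes -/
def mask : ℕ := 0x7f

/-- all rows -/
def rows : List ℕ := rows0

theorem rows0_ok : checkRows F 6 16777216 36 mask rows0 = true := by
  decide +kernel

theorem rows_ok : checkRows F 6 16777216 36 mask rows = true := rows0_ok

theorem mask_ok : maskOf 16777216 rows 0 = mask := by
  decide +kernel

theorem mask_zero : tb mask 0 = true := by
  decide +kernel

theorem rows_length : rows.length = 7 := by
  decide +kernel

end Cfsg.Agent.Lib.H17.Fi22Ord.Lv6
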