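import Cfsg.Agent.Lib.H17.Fi22Ord.Lv6Facts

set_option autoImplicit false
set_option maxRecDepth 100000

/-! # Steps of the coset enumeration Fi22Ord Lv6, part 0 (generated) -/

namespace Cfsg.Agent.Lib.H17.Fi22Ord.Lv6

open Cfsg.Spor Cfsg.Agent.Lib.H17.CosetCert Cfsg.Agent.Lib.H17.CoxGlue Cfsg.Agent.Lib.H17.Fi22Glue Cfsg.Agent.Lib.H17.SubChain Cfsg.Agent.Lib.H17.Fi22Ord

/-- steps 0 … -/
def steps0 : List ℕ := [0x10, 0x11, 0x12, 0x13, 0x14, 0x0, 0x5000005000000000001000002000000000005, 0x5000005000001000001000002000000000009, 0x500000500000200000100000200000000000c, 0x500000500000300000100000200000000000e, 0x0, 0xa00000a000006000001000002000001000004, 0xa00000a000007000001000002000001000008, 0xa00000a00000800000100000200000100000b, 0x500000400000500000a00000a00000400000100000100000f, 0x0, 0xf00000f00000b000001000002000002000003, 0xf00000f00000c000001000002000002000007, 0xa00000900000a00000f00000f00000400000100000200000d, 0xe00000f00000f00000200000100000200000e, 0x0, 0x14000014000010000001000002000003000002, 0xf00000d00000f00001400001400000400000100000300000a, 0x1200001400001400000200000100000300000b, 0x1300001400001400000200000100000300000c,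 0x0, 0x14000011000014000019000019000004000001000004000006, 0x16000019000019000002000001000004000007, 0x17000019000019000002000001000004000008, 0x18000019000019000002000001000004000009, 0x0, 0x1900001500001900001e00001e000004000001000005000001, 0x1a00001e00001e000002000001000005000002, 0x1b00001e00001e000002000001000005000003, 0x1c00001e00001e000002000001000005000004, 0x1d00001e00001e000002000001000005000005]

theorem chk0 : checkSteps F 6 16777216 words steps0 0 1 = some 7 := by
  decide +kernel

theorem len0 : steps0.length = 36 := by
  decide +kernel

end Cfsg.Agent.Lib.H17.Fi22Ord.Lv6
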