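import Cfsg.Agent.Lib.H17.Fi22Ord.Lv8StepsA
import Cfsg.Agent.Lib.H17.Fi22Ord.Lv8StepsB
import Cfsg.Agent.Lib.H17.Fi22Ord.Lv8Rows

set_option autoImplicit false
set_option maxRecDepth 100000

/-! # Bound for the relative index, Fi22Ord Lv8 (generated) -/

namespace Cfsg.Agent.Lib.H17.Fi22Ord.Lv8

open Cfsg.Spor Cfsg.Agent.Lib.H17.CosetCert Cfsg.Agent.Lib.H17.CoxGlue Cfsg.Agent.Lib.H17.Fi22Glue Cfsg.Agent.Lib.H17.SubChain Cfsg.Agent.Lib.H17.Fi22Ord

theorem bound : Bound words 8 3159 := by
  intro G' _ Q' _ _ γ' hinv q0 hOK hgen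
  have h0 := inv_zero F 8 γ' q0
  have h1 := checkSteps_sound F 8 16777216 γ' hinv q0 words hOK steps0 0 1 422 h0 chk0
  rw [len0] at h1
  have h2 := checkSteps_sound F 8 16777216 γ' hinv q0 words hOK steps1 2000 422 940 h1 chk1
  rw [len1] at h2
  have h3 := checkSteps_sound F 8 16777216 γ' hinv q0 words hOK steps2 4000 940 1501 h2 chk2
  rw [len2] at h3
  have h4 := checkSteps_sound F 8 16777216 γ' hinv q0 words hOK steps3 6000 1501 2104 h3 chk3
  rw [len3] at h4
  have h5 := checkSteps_sound F 8 16777216 γ' hinv q0 words hOK steps4 8000 2104 2778 h4 chk4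
  rw [len4] at h5
  have h6 := checkSteps_sound F 8 16777216 γ' hinv q0 words hOK steps5 10000 2778 3418 h5 chk5
  rw [len5] at h6
  have h7 := checkSteps_sound F 8 16777216 γ' hinv q0 words hOK steps6 12000 3418 4101 h6 chk6
  rw [len6] at h7
  have h8 := checkSteps_sound F 8 16777216 γ' hinv q0 words hOK steps7 14000 4101 4823 h7 chk7
  rw [len7] at h8
  have h9 := checkSteps_sound F 8 16777216 γ' hinv q0 words hOK steps8 16000 4823 5598 h8 chk8
  rw [len8] at h9
  have h10 := checkSteps_sound F 8 16777216 γ' hinv q0 words hOK steps9 18000 5598 6393 h9 chk9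
  rw [len9] at h10
  have h11 := checkSteps_sound F 8 16777216 γ' hinv q0 words hOK steps10 20000 6393 6685 h10 chk10
  rw [len10] at h11
  have h12 := checkSteps_sound F 8 16777216 γ' hinv q0 words hOK steps11 22000 6685 6720 h11 chk11
  rw [len11] at h12
  have h13 := checkSteps_sound F 8 16777216 γ' hinv q0 words hOK steps12 24000 6720 6720 h12 chk12
  rw [len12] at h13
  have := card_le F 8 16777216 γ' hinv q0 25178 6720 h13 rows mask mask_ok mask_zero rows_ok hgen
  rw [rows_length] at this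
  exact this

/-- the relative index of the subgroup on the first 7 letters in that on the first 8 -/
theorem level : (K γo 7).relIndex (K γo 8) ≠ 0 ∧ (K γo 7).relIndex (K γo 8) ≤ 3159 := by
  apply SubChain.level γo γo_mul_self words 8 7 3159 bound
  intro v hv
  obtain ⟨h1, h2, h3⟩ := words_spec v hv
  refine ⟨h1, fun hr => rel_trivial v.1 (h2 hr), fun hr => ?_⟩
  obtain ⟨x, hx, hvx⟩ := h3 hr
  rw [hvx]
  simpa using mem_K γo hx

end Cfsg.Agent.Lib.H17.Fi22Ord.Lv8
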