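import Cfsg.Agent.Lib.H17.Fi22Ord.Upper
import Cfsg.Agent.Lib.H17.Fi22U62.Sgs

set_option autoImplicit false

/-! # The order of the presented group Fi22, and faithfulness of the action on 3510 points -/

namespace Cfsg.Agent.Lib.H17.Fi22Ord

open Cfsg.Spor Cfsg.Agent.Lib.H17.CosetCert Cfsg.Agent.Lib.H17.Fi22Glue

theorem finite_G : Finite G := Nat.finite_of_card_ne_zero card_le.1.ne'

theorem card_eq_and_injective :
    Nat.card G = 64561751654400 ∧ Function.Injective Cfsg.Agent.Lib.H17.Fi22U62.φ := by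
  haveI := finite_G
  have h1 := card_le.2
  have h2 := Cfsg.Agent.Lib.H17.Fi22U62.card_ge
  have hs : Function.Surjective Cfsg.Agent.Lib.H17.Fi22U62.φ.rangeRestrict :=
    MonoidHom.rangeRestrict_surjective _
  have h3 : Nat.card Cfsg.Agent.Lib.H17.Fi22U62.P ≤ Nat.card G :=
    Nat.card_le_card_of_surjective _ hs
  refine ⟨le_antisymm h1 (le_trans h2 h3), ?_⟩
  have hb := hs.bijective_of_nat_card_le (le_trans h1 h2)
  intro x y hxy
  apply hb.1
  exact Subtype.ext hxy

theorem card_eq : Nat.card G = 64561751654400 := card_eq_and_injective.1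

theorem φ_injective : Function.Injective Cfsg.Agent.Lib.H17.Fi22U62.φ := card_eq_and_injective.2

end Cfsg.Agent.Lib.H17.Fi22Ord
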